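import Cfsg.Agent.SpecSpEight.PSpGraph
import Cfsg.Agent.Classical.SymplecticBlocks

/-!
The prime graph of `PSp_6(3)`: primes 2, 3, 5, 7, 13; edges 2-3, 2-5, 2-7, 3-5.
-/

set_option autoImplicit false
set_option linter.style.haveILetI false

namespace CfsgLib.PrimeGraphSp

open Module Matrix CfsgLib.PrimeGraphBC CfsgLib.SpecSpEight
open LinearMap (BilinForm)

universe u

variable {F : Type u} [Field F] [Fintype F]

local notation "Sp" m => Matrix.symplecticGroup (Fin m) F

theorem charP_three (hF : Fintype.card F = 3) : CharP F 3 := by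
  obtain ⟨p, hp⟩ := CharP.exists F
  have hpp := CharP.char_is_prime F p
  obtain ⟨n, -, hn⟩ := FiniteField.card F p
  rw [hF] at hn
  have : p = 3 := (Nat.prime_dvd_prime_iff_eq hpp Nat.prime_three).1 (hn ▸ dvd_pow_self p n.ne_zero)
  exact this ▸ hp

theorem card_sp (hF : Fintype.card F = 3) (k : ℕ) : Nat.card (Sp k) =
    3 ^ (k ^ 2) * ∏ i : Fin k, (3 ^ (2 * ((i : ℕ) + 1)) - 1) := by
  rw [CfsgLib.Symp.card_Sp, Nat.card_eq_fintype_card (α := F), hF, ← Fin.prod_univ_eq_prod_range]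

theorem exists_four (hF : Fintype.card F = 3) : ∃ z : Sp 1, orderOf z = 4 := by
  obtain ⟨z, hz⟩ := exists_sp_torN (F := F) 1 le_rfl true
  exact CfsgLib.Spectrum.exists_orderOf_eq_of_dvd (orderOf_pos z) (by simpa [torN, hF] using hz)

theorem exists_psp_two_mul {N r : ℕ} (hN : N = 4 * r) {A : Sp 3} (hA : orderOf A = N) :
    ∃ y : Cfsg.PSp 3 F, orderOf y = 2 * r := by
  refine CfsgLib.Spectrum.exists_orderOf_eq_of_dvd (orderOf_pos (QuotientGroup.mk A : Cfsg.PSp 3 F)) ?_
  have := CfsgLib.SpecAbsorb.dvd_two_mul_orderOf_mk A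
  rw [hA, hN, show 4 * r = 2 * (2 * r) by ring] at this
  exact Nat.dvd_of_mul_dvd_mul_left two_pos this

theorem psp_six (hF : Fintype.card F = 3) : ∃ y : Cfsg.PSp 3 F, orderOf y = 6 := by
  obtain ⟨a, ha⟩ := exists_four hF
  haveI : Fact (Nat.Prime 3) := ⟨Nat.prime_three⟩
  obtain ⟨b, hb⟩ := exists_prime_orderOf_dvd_card' (G := Sp 1) 3 (by rw [card_sp hF]; norm_num)
  obtain ⟨z, hz⟩ := exists_sp_sum (F := F) (show 1 + 1 ≤ 3 by norm_num) a b
  exact exists_psp_two_mul (r := 3) (N := 12) rfl (by rw [hz, ha, hb]; rfl)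

theorem psp_ten (hF : Fintype.card F = 3) : ∃ y : Cfsg.PSp 3 F, orderOf y = 10 := by
  obtain ⟨a, ha⟩ := exists_four hF
  obtain ⟨w, hw⟩ := exists_sp_torN (F := F) 2 one_le_two true
  obtain ⟨b, hb⟩ := CfsgLib.Spectrum.exists_orderOf_eq_of_dvd (d := 5) (orderOf_pos w)
    ((show 5 ∣ torN (Fintype.card F) 2 true by norm_num [torN, hF]).trans hw)
  obtain ⟨z, hz⟩ := exists_sp_sum (F := F) (show 1 + 2 ≤ 3 by norm_num) a b
  exact exists_psp_two_mul (r := 5) (N := 20) rfl (by rw [hz, ha, hb]; rfl)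

theorem psp_fourteen (hF : Fintype.card F = 3) : ∃ y : Cfsg.PSp 3 F, orderOf y = 14 := by
  obtain ⟨w, hw⟩ := exists_sp_torN (F := F) 3 (by norm_num) true
  obtain ⟨b, hb⟩ := CfsgLib.Spectrum.exists_orderOf_eq_of_dvd (d := 28) (orderOf_pos w)
    (by simpa [torN, hF] using hw)
  exact exists_psp_two_mul (r := 7) (N := 28) rfl hb

theorem eta_five (hF : Fintype.card F = 3) : IsEta (orderOf (Fintype.card F : ZMod 5)) 2 := by
  have h : orderOf ((Fintype.card F : ℕ) : ZMod 5) = 4 := by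
    rw [hF, orderOf_eq_iff (by norm_num)]
    exact ⟨by decide, fun m hm h0 => by interval_cases m <;> decide⟩
  exact Or.inr ⟨h ▸ by decide, h ▸ rfl⟩

theorem eta_seven (hF : Fintype.card F = 3) : orderOf (Fintype.card F : ZMod 7) = 6 ∧
    IsEta (orderOf (Fintype.card F : ZMod 7)) 3 := by
  have h : orderOf ((Fintype.card F : ℕ) : ZMod 7) = 6 := by
    rw [hF, orderOf_eq_iff (by norm_num)]
    exact ⟨by decide, fun m hm h0 => by interval_cases m <;> decide⟩
  exact ⟨h, Or.inr ⟨h ▸ by decide, h ▸ rfl⟩⟩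

theorem eta_thirteen (hF : Fintype.card F = 3) : orderOf (Fintype.card F : ZMod 13) = 3 ∧
    IsEta (orderOf (Fintype.card F : ZMod 13)) 3 := by
  have h : orderOf ((Fintype.card F : ℕ) : ZMod 13) = 3 := by
    rw [hF, orderOf_eq_iff (by norm_num)]
    exact ⟨by decide, fun m hm h0 => by interval_cases m <;> decide⟩
  exact ⟨h, Or.inl ⟨h ▸ by decide, h.symm⟩⟩

theorem orderOf_five (hF : Fintype.card F = 3) : orderOf (Fintype.card F : ZMod 5) = 4 := by
  rcases eta_five hF with ⟨-, e⟩ | ⟨-, e⟩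
  · exfalso
    have h1 : ((Fintype.card F : ℕ) : ZMod 5) ^ 2 = 1 := by rw [e]; exact pow_orderOf_eq_one _
    rw [hF] at h1
    exact absurd h1 (by decide)
  · exact e.symm

theorem orderOf_prime_dvd {r n : ℕ} (_hr : r.Prime) (g : Cfsg.PSp 3 F) (hg : orderOf g = n) (hd : r ∣ n) :
    r ∣ Nat.card (Cfsg.PSp 3 F) := hd.trans (hg ▸ orderOf_dvd_natCard g)

theorem dvd_card_psp_iff (hF : Fintype.card F = 3) {r : ℕ} (hr : r.Prime)
    (hd : r ∣ Nat.card (Cfsg.PSp 3 F)) : r = 2 ∨ r = 3 ∨ r = 5 ∨ r = 7 ∨ r = 13 := by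
  have h1 : r ∣ Nat.card (Sp 3) := hd.trans ⟨_, Subgroup.card_eq_card_quotient_mul_card_subgroup _⟩
  rw [card_sp hF] at h1
  have h2 : r ∣ 2 ^ 10 * (3 ^ 9 * (5 * (7 * 13))) := h1.trans (by norm_num [Fin.prod_univ_three])
  rcases hr.dvd_mul.1 h2 with h | h
  · exact Or.inl ((Nat.prime_dvd_prime_iff_eq hr Nat.prime_two).1 (hr.dvd_of_dvd_pow h))
  rcases hr.dvd_mul.1 h with h | h
  · exact Or.inr (Or.inl ((Nat.prime_dvd_prime_iff_eq hr Nat.prime_three).1 (hr.dvd_of_dvd_pow h)))
  rcases hr.dvd_mul.1 h with h | h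
  · exact Or.inr (Or.inr (Or.inl ((Nat.prime_dvd_prime_iff_eq hr (by norm_num)).1 h)))
  rcases hr.dvd_mul.1 h with h | h
  · exact Or.inr (Or.inr (Or.inr (Or.inl ((Nat.prime_dvd_prime_iff_eq hr (by norm_num)).1 h))))
  · exact Or.inr (Or.inr (Or.inr (Or.inr ((Nat.prime_dvd_prime_iff_eq hr (by norm_num)).1 h))))

/-- An element of order 13 commuting with a non-central involution of `Sp_6(3)` is trivial. -/
theorem eq_one_of_commute (hF : Fintype.card F = 3) {X T : Sp 3} (hX : X ^ 13 = 1) (hT : T * T = 1)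
    (hT1 : T.1 ≠ 1) (hT2 : T.1 ≠ -1) (hc : Commute X T) : X = 1 := by
  classical
  haveI : CharP F 3 := charP_three hF
  have h2 : (2 : F) ≠ 0 := fun e => by
    have := (CharP.cast_eq_zero_iff F 3 2).1 (by exact_mod_cast e)
    norm_num at this
  set x := fromSp 3 X with hx
  set t := fromSp 3 T with ht
  have htt : ∀ v, t.1 (t.1 v) = v := fun v => by
    rw [← LinearEquiv.mul_apply, ← Subgroup.coe_mul, ht, ← map_mul, hT, map_one]; rfl
  have hxt : ∀ v, x.1 (t.1 v) = t.1 (x.1 v) := fun v => by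
    rw [← LinearEquiv.mul_apply, ← LinearEquiv.mul_apply, ← Subgroup.coe_mul, ← Subgroup.coe_mul,
      (hc.map (fromSp 3)).eq]
  have hform := t.2
  have key : ∀ ε : F, ε = 1 ∨ ε = -1 → ∀ v, t.1 v = ε • v → x.1 v = v := by
    intro ε hε v hv
    let W : Submodule F (Fin 3 ⊕ Fin 3 → F) := LinearMap.ker (t.1.toLinearMap - ε • LinearMap.id)
    have hmem : ∀ w, w ∈ W ↔ t.1 w = ε • w := fun w => by simp [W, sub_eq_zero]
    have hεε : ε * ε = 1 := by rcases hε with rfl | rfl <;> norm_num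
    have hsplit : ∀ u, ∃ a b, u = a + b ∧ t.1 a = ε • a ∧ t.1 b = (-ε) • b := fun u => by
      refine ⟨(2 : F)⁻¹ • (u + ε • t.1 u), (2 : F)⁻¹ • (u - ε • t.1 u), ?_, ?_, ?_⟩
      · rw [← smul_add, show u + ε • t.1 u + (u - ε • t.1 u) = (2 : F) • u by rw [two_smul]; abel,
          inv_smul_smul₀ h2]
      · rw [map_smul, map_add, map_smul, htt, smul_comm ε]
        congr 1
        rw [smul_add, smul_smul, hεε, one_smul]; abel
      · rw [map_smul, map_sub, map_smul, htt, smul_comm (-ε)]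
        congr 1
        rw [smul_sub, smul_smul, neg_mul, hεε, neg_smul, neg_smul, one_smul]; abel
    have horth : ∀ a b, t.1 a = ε • a → t.1 b = (-ε) • b → (stdB (F := F) 3) a b = 0 := fun a b ha hb => by
      have e := hform a b
      rw [ha, hb] at e
      change (stdB (F := F) 3) (ε • a) ((-ε) • b) = (stdB (F := F) 3) a b at e
      simp only [map_smul, LinearMap.smul_apply, smul_eq_mul] at e
      have : (2 : F) * (stdB (F := F) 3) a b = 0 := by
        linear_combination (-1 : F) * e - (stdB (F := F) 3) a b * hεε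
      exact (mul_eq_zero.1 this).resolve_left h2
    have hBa : ((stdB (F := F) 3).restrict W).IsAlt := fun w => stdB_alt 3 _
    have hBn : ((stdB (F := F) 3).restrict W).Nondegenerate := by
      have hleft : ∀ w : W, (∀ w' : W, (stdB (F := F) 3) w.1 w'.1 = 0) → w = 0 := fun w hw => by
        refine Subtype.ext ((stdB_nondeg 3).1 w.1 fun u => ?_)
        obtain ⟨a, b, rfl, ha, hb⟩ := hsplit u
        change (stdB (F := F) 3) w.1 (a + b) = 0
        rw [map_add, horth _ b ((hmem _).1 w.2) hb, hw ⟨a, (hmem a).2 ha⟩, add_zero]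
      refine ⟨hleft, fun w hw => hleft w fun w' => ?_⟩
      have := hw w'
      change (stdB (F := F) 3) w'.1 w.1 = 0 at this
      rw [← LinearMap.BilinForm.IsAlt.neg_eq (stdB_alt 3) w'.1 w.1, this, neg_zero]
    obtain ⟨m, hm⟩ := even_finrank_of_alt hBa hBn
    have hlt : finrank F W < 6 := by
      have htop : W ≠ ⊤ := fun e => by
        have hsc : ∀ u, T.1 *ᵥ u = ε • u := fun u => by
          rw [← fromSp_apply]; exact (hmem u).1 (e ▸ Submodule.mem_top)
        have hTε : T.1 = ε • 1 := Matrix.ext_iff_smul.2 fun u => by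
          rw [Matrix.smul_eq_mulVec, Matrix.smul_eq_mulVec, hsc, smul_mulVec, one_mulVec]
        rcases hε with rfl | rfl
        · exact hT1 (by rw [hTε, one_smul])
        · exact hT2 (by rw [hTε, neg_smul, one_smul])
      have := Submodule.finrank_lt htop
      simpa using this
    obtain ⟨e, he⟩ := exists_std_alt hBa hBn hm
    let C : Subgroup (bIso (stdB (F := F) 3)) := Subgroup.centralizer {t}
    have hxC : x ∈ C := Subgroup.mem_centralizer_singleton_iff.2 ((hc.map (fromSp 3)).eq)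
    have hstab : ∀ c : C, ∀ w ∈ W, c.1.1 w ∈ W := fun c w hw => by
      rw [hmem] at hw ⊢
      have := congrArg (fun z : bIso (stdB (F := F) 3) => z.1 w) (Subgroup.mem_centralizer_singleton_iff.1 c.2)
      change c.1.1 (t.1 w) = t.1 (c.1.1 w) at this
      rw [← this, hw, map_smul]
    let φ : C →* bIso ((stdB (F := F) 3).restrict W) :=
      { toFun := fun c => ⟨LinearEquiv.ofLinearMap (c.1.1.toLinearMap.restrict (hstab c))
          ((c⁻¹).1.1.toLinearMap.restrict (hstab c⁻¹))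
          (LinearMap.ext fun w => Subtype.ext (by simp))
          (LinearMap.ext fun w => Subtype.ext (by simp)), fun u w => c.1.2 u.1 w.1⟩
        map_one' := rfl
        map_mul' := fun _ _ => rfl }
    have h13 : ¬ 13 ∣ Nat.card (Sp m) := by
      have : m ≤ 2 := by omega
      interval_cases m <;> rw [card_sp hF] <;> norm_num [Fin.prod_univ_two]
    have hone : toSp e he (φ ⟨x, hxC⟩) = 1 := by
      have hp : toSp e he (φ ⟨x, hxC⟩) ^ 13 = 1 := by
        rw [← map_pow, ← map_pow, show (⟨x, hxC⟩ : C) ^ 13 = 1 from Subtype.ext (by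
          rw [SubmonoidClass.coe_pow]; show x ^ 13 = 1; rw [hx, ← map_pow, hX, map_one]), map_one, map_one]
      have hd := orderOf_dvd_of_pow_eq_one hp
      rcases (Nat.dvd_prime (by norm_num)).1 hd with h' | h'
      · exact orderOf_eq_one_iff.1 h'
      · exact absurd (h' ▸ orderOf_dvd_natCard _) h13
    have hφ : φ ⟨x, hxC⟩ = 1 := toSp_injective e he (hone.trans (map_one _).symm)
    exact congrArg (fun z : bIso ((stdB (F := F) 3).restrict W) => ((z.1 ⟨v, (hmem v).2 hv⟩ : W) : Fin 3 ⊕ Fin 3 → F)) hφ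
  refine fromSp_injective 3 ((Subtype.ext (LinearEquiv.ext fun u => ?_)).trans (map_one _).symm)
  show x.1 u = u
  have hu : u = (2 : F)⁻¹ • (u + t.1 u) + (2 : F)⁻¹ • (u - t.1 u) := by
    rw [← smul_add, show u + t.1 u + (u - t.1 u) = (2 : F) • u by rw [two_smul]; abel, inv_smul_smul₀ h2]
  conv_lhs => rw [hu]
  rw [map_add, map_smul, map_smul, key 1 (Or.inl rfl) (u + t.1 u) (by rw [map_add, htt, one_smul]; abel),
    key (-1) (Or.inr rfl) (u - t.1 u) (by rw [map_sub, htt, neg_smul, one_smul]; abel), ← hu]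

theorem not_twentysix (hF : Fintype.card F = 3) (y : Cfsg.PSp 3 F) (hy : orderOf y = 26) : False := by
  haveI : CharP F 3 := charP_three hF
  haveI : Fact (Nat.Prime 3) := ⟨Nat.prime_three⟩
  obtain ⟨A, rfl⟩ := QuotientGroup.mk_surjective y
  have hdA : 26 ∣ orderOf A := hy ▸ orderOf_map_dvd (QuotientGroup.mk' _) A
  obtain ⟨S, hpos, c, e, hsum, hce, he, hpow⟩ := sp_pow_eq_one (p := 3) A
  have h13p : Nat.Prime 13 := by norm_num
  rw [hF] at hpow
  have h13 : 13 ∣ torLcm 3 S := by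
    refine (h13p.dvd_mul.1 (((show 13 ∣ 26 by norm_num).trans hdA).trans (orderOf_dvd_of_pow_eq_one hpow))).resolve_right
      fun h => ?_
    rcases he 13 h13p h with h' | h' <;> norm_num at h'
  obtain ⟨⟨a, b⟩, hx, hxd⟩ := dvd_torLcm_cases h13p S h13
  have ha := fst_le_torSum hx
  have ha1 := hpos _ hx
  simp only at ha ha1 hxd
  have hab : a = 3 ∧ b = false := by
    have ha3 : a ≤ 3 := by omega
    revert hxd
    interval_cases a <;> cases b <;> simp [torN]
  obtain ⟨rfl, rfl⟩ := hab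
  have hS : ∀ z ∈ S, z = (3, false) := fun z hz => by
    by_contra hne
    have := add_le_torSum hz hx hne
    have := hpos z hz
    simp only at *
    omega
  have hl : ∀ L : List (ℕ × Bool), (∀ z ∈ L, z = (3, false)) → torLcm 3 L ∣ 26 := by
    intro L
    induction L with
    | nil => intro _; simp [torLcm]
    | cons z L ih =>
      intro hL
      rw [torLcm, hL z (List.mem_cons_self ..)]
      exact Nat.lcm_dvd (ih fun w hw => hL w (List.mem_cons_of_mem _ hw)) (by simp [torN])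
  have hA26 : A ^ 26 = 1 := by
    rw [hce (by omega), mul_one] at hpow
    exact pow_dvd_eq_one hpow (hl S hS)
  have hord : orderOf A = 26 := Nat.dvd_antisymm (orderOf_dvd_of_pow_eq_one hA26) hdA
  have hX : A ^ 2 = 1 := by
    refine eq_one_of_commute hF (T := A ^ 13) (by rw [← pow_mul]; exact hA26)
      (by rw [← pow_add]; exact hA26) (fun e => ?_) (fun e => ?_) ((Commute.refl A).pow_pow 2 13)
    all_goals
      have hz : A ^ 13 ∈ Subgroup.center (Sp 3) := CfsgLib.Symp.mem_center_iff.2 (by first | exact Or.inl e | exact Or.inr e)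
      have h1 : (QuotientGroup.mk A : Cfsg.PSp 3 F) ^ 13 = 1 := by
        rw [← QuotientGroup.mk_pow]; exact (QuotientGroup.eq_one_iff _).2 hz
      have := hy ▸ orderOf_dvd_of_pow_eq_one h1
      norm_num at this
  have := hord ▸ orderOf_dvd_of_pow_eq_one hX
  norm_num at this

end CfsgLib.PrimeGraphSp
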