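import Cfsg.Agent.PrimeGraphSp.SzGroup
import Cfsg.Agent.PrimeGraphSp.PSpSix

/-!
Groups of unbounded order with the prime graph of `PSp_6(3)`.
-/

set_option autoImplicit false
set_option linter.style.haveILetI false

namespace CfsgLib.PrimeGraphSp

universe u

open CfsgLib.Suzuki

theorem graph_eq {A B : Type*} [Group A] [Group B] [Finite A] [Finite B]
    (hA : ∀ r : ℕ, r.Prime → r ∣ Nat.card A → r ∈ [2, 3, 5, 7, 13])
    (hB : ∀ r : ℕ, r.Prime → r ∣ Nat.card B → r ∈ [2, 3, 5, 7, 13])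
    (hAy : ∀ n ∈ [6, 10, 14, 15], ∃ g : A, orderOf g = n) (hBy : ∀ n ∈ [6, 10, 14, 15], ∃ g : B, orderOf g = n)
    (hA13 : 13 ∣ Nat.card A) (hB13 : 13 ∣ Nat.card B)
    (hAn : ∀ n ∈ [21, 26, 35, 39, 65, 91], ¬ ∃ g : A, orderOf g = n)
    (hBn : ∀ n ∈ [21, 26, 35, 39, 65, 91], ¬ ∃ g : B, orderOf g = n) :
    (∀ p : ℕ, p.Prime → (p ∣ Nat.card A ↔ p ∣ Nat.card B)) ∧
      (∀ p q : ℕ, p.Prime → q.Prime → p ≠ q →
        ((∃ g : A, orderOf g = p * q) ↔ (∃ g : B, orderOf g = p * q))) := by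
  have hmem : ∀ (C : Type _) [Group C] [Finite C], (∀ n ∈ [6, 10, 14, 15], ∃ g : C, orderOf g = n) →
      13 ∣ Nat.card C → ∀ r ∈ [2, 3, 5, 7, 13], r ∣ Nat.card C := by
    intro C _ _ hy h13 r hr
    have key : ∀ n ∈ [6, 10, 14, 15], ∀ s, s ∣ n → s ∣ Nat.card C := fun n hn s hs => by
      obtain ⟨g, hg⟩ := hy n hn
      exact hs.trans (hg ▸ orderOf_dvd_natCard g)
    simp only [List.mem_cons, List.not_mem_nil, or_false] at hr
    rcases hr with rfl | rfl | rfl | rfl | rfl
    · exact key 6 (by simp) 2 (by norm_num)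
    · exact key 6 (by simp) 3 (by norm_num)
    · exact key 10 (by simp) 5 (by norm_num)
    · exact key 14 (by simp) 7 (by norm_num)
    · exact h13
  have hmA := hmem A hAy hA13
  have hmem' : ∀ (C : Type _) [Group C] [Finite C], (∀ n ∈ [6, 10, 14, 15], ∃ g : C, orderOf g = n) →
      13 ∣ Nat.card C → ∀ r ∈ [2, 3, 5, 7, 13], r ∣ Nat.card C := by
    intro C _ _ hy h13 r hr
    have key : ∀ n ∈ [6, 10, 14, 15], ∀ s, s ∣ n → s ∣ Nat.card C := fun n hn s hs => by
      obtain ⟨g, hg⟩ := hy n hn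
      exact hs.trans (hg ▸ orderOf_dvd_natCard g)
    simp only [List.mem_cons, List.not_mem_nil, or_false] at hr
    rcases hr with rfl | rfl | rfl | rfl | rfl
    · exact key 6 (by simp) 2 (by norm_num)
    · exact key 6 (by simp) 3 (by norm_num)
    · exact key 10 (by simp) 5 (by norm_num)
    · exact key 14 (by simp) 7 (by norm_num)
    · exact h13
  have hmB := hmem' B hBy hB13
  refine ⟨fun p hp => ⟨fun h => hmB p (hA p hp h), fun h => hmA p (hB p hp h)⟩, ?_⟩
  intro p q hp hq hne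
  by_cases hin : p ∈ [2, 3, 5, 7, 13] ∧ q ∈ [2, 3, 5, 7, 13]
  · obtain ⟨hp', hq'⟩ := hin
    have hcase : p * q ∈ [6, 10, 14, 15] ∨ p * q ∈ [21, 26, 35, 39, 65, 91] := by
      simp only [List.mem_cons, List.not_mem_nil, or_false] at hp' hq'
      rcases hp' with rfl | rfl | rfl | rfl | rfl <;> rcases hq' with rfl | rfl | rfl | rfl | rfl <;>
        first | omega | decide
    rcases hcase with h | h
    · exact ⟨fun _ => hBy _ h, fun _ => hAy _ h⟩
    · exact ⟨fun hg => absurd hg (hAn _ h), fun hg => absurd hg (hBn _ h)⟩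
  · constructor
    · rintro ⟨g, hg⟩
      exact absurd ⟨hA p hp ((dvd_mul_right p q).trans (hg ▸ orderOf_dvd_natCard g)),
        hA q hq ((dvd_mul_left q p).trans (hg ▸ orderOf_dvd_natCard g))⟩ hin
    · rintro ⟨g, hg⟩
      exact absurd ⟨hB p hp ((dvd_mul_right p q).trans (hg ▸ orderOf_dvd_natCard g)),
        hB q hq ((dvd_mul_left q p).trans (hg ▸ orderOf_dvd_natCard g))⟩ hin

theorem main {F : Type u} [Field F] [Fintype F] (hF : Fintype.card F = 3) (N : ℕ) :
    ∃ (H : Type) (_ : Group H) (_ : Finite H), N < Nat.card H ∧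
      ((∀ p : ℕ, p.Prime → (p ∣ Nat.card (Cfsg.PSp 3 F) ↔ p ∣ Nat.card H)) ∧
      (∀ p q : ℕ, p.Prime → q.Prime → p ≠ q →
        ((∃ g : (Cfsg.PSp 3 F), orderOf g = p * q) ↔ (∃ g : H, orderOf g = p * q)))) := by
  haveI : Fact (Nat.Prime 2) := ⟨Nat.prime_two⟩
  haveI : Fact (Nat.Prime 3) := ⟨Nat.prime_three⟩
  haveI : CharP F 3 := charP_three hF
  have h : IsSzField (GaloisField 2 3) 1 := ⟨le_rfl, GaloisField.card 2 3 (by norm_num)⟩
  let s : RingAut (GaloisField 2 3) := frobeniusEquiv (GaloisField 2 3) 2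
  have hs : ∀ x, s x = x ^ 2 := fun x => frobenius_def 2 x
  haveI : Finite (Grp h s (N + 1)) := finite_grp h (N + 1)
  refine ⟨Grp h s (N + 1), inferInstance, inferInstance, ?_, ?_⟩
  · rw [card_grp h]
    have h1 : N < 8 ^ (48 * (N + 1)) := lt_of_lt_of_le (by omega : N < 48 * (N + 1))
      (Nat.lt_pow_self (by norm_num)).le
    exact lt_of_lt_of_le h1 (Nat.le_mul_of_pos_right _ (by norm_num))
  have hn5 : (Nat.Prime 5) := by norm_num
  have hn7 : (Nat.Prime 7) := by norm_num
  have hn13 : (Nat.Prime 13) := by norm_num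
  have h13B : 13 ∣ Nat.card (Cfsg.PSp 3 F) := by
    have e := Subgroup.card_eq_card_quotient_mul_card_subgroup
      (Subgroup.center (Matrix.symplecticGroup (Fin 3) F))
    have h1 : 13 ∣ Nat.card (Cfsg.PSp 3 F) * Nat.card (Subgroup.center (Matrix.symplecticGroup (Fin 3) F)) := by
      rw [← e, card_sp hF]; norm_num [Fin.prod_univ_three]
    refine (hn13.dvd_mul.1 h1).resolve_right fun hd => ?_
    haveI := Fact.mk hn13
    obtain ⟨z, hz⟩ := exists_prime_orderOf_dvd_card' 13 hd
    have hz2 : z ^ 2 = 1 := by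
      refine Subtype.ext (Subtype.ext ?_)
      rcases CfsgLib.Symp.mem_center_iff.1 z.2 with e | e <;> simp [SubmonoidClass.coe_pow, e]
    have := hz ▸ orderOf_dvd_of_pow_eq_one hz2
    norm_num at this
  refine graph_eq (fun r hr hd => ?_) (fun r hr hd => ?_) ?_ ?_ h13B ?_ ?_ ?_
  · rcases dvd_card_psp_iff hF hr hd with e | e | e | e | e <;> simp [e]
  · rw [card_grp h] at hd
    rcases hr.dvd_mul.1 hd with h' | h'
    · simp [(Nat.prime_dvd_prime_iff_eq hr Nat.prime_two).1 (hr.dvd_of_dvd_pow (m := 2) (n := 3 * (48 * (N + 1))) (by rw [pow_mul]; exact h'))]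
    · have h2 : r ∣ 2 ^ 6 * (3 * (5 * (7 * 13))) := h'.trans (by norm_num)
      rcases hr.dvd_mul.1 h2 with h | h
      · simp [(Nat.prime_dvd_prime_iff_eq hr Nat.prime_two).1 (hr.dvd_of_dvd_pow h)]
      rcases hr.dvd_mul.1 h with h | h
      · simp [(Nat.prime_dvd_prime_iff_eq hr Nat.prime_three).1 h]
      rcases hr.dvd_mul.1 h with h | h
      · simp [(Nat.prime_dvd_prime_iff_eq hr hn5).1 h]
      rcases hr.dvd_mul.1 h with h | h
      · simp [(Nat.prime_dvd_prime_iff_eq hr hn7).1 h]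
      · simp [(Nat.prime_dvd_prime_iff_eq hr hn13).1 h]
  · intro n hn
    simp only [List.mem_cons, List.not_mem_nil, or_false] at hn
    rcases hn with rfl | rfl | rfl | rfl
    · exact psp_six hF
    · exact psp_ten hF
    · exact psp_fourteen hF
    · exact Set.mem_range.1 ((CfsgLib.SpecSpEight.psp_adjacent_char_iff (p := 3) (n := 3) (r := 5) (by norm_num)
        hn5 (by norm_num) (by norm_num) (eta_five hF)).2 (by norm_num))
  · intro n hn
    simp only [List.mem_cons, List.not_mem_nil, or_false] at hn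
    rcases hn with rfl | rfl | rfl | rfl
    · exact exists_six h hs N
    · exact exists_ten h N
    · exact exists_fourteen h hs N
    · exact exists_fifteen h hs (N + 1)
  · rw [card_grp h]; exact dvd_mul_of_dvd_right (by norm_num) _
  · intro n hn hg
    simp only [List.mem_cons, List.not_mem_nil, or_false] at hn
    obtain ⟨g, hg⟩ := hg
    rcases hn with rfl | rfl | rfl | rfl | rfl | rfl
    · have := (CfsgLib.SpecSpEight.psp_adjacent_char_iff (p := 3) (n := 3) (by norm_num) hn7 (by norm_num)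
        (by norm_num) (eta_seven hF).2).1 ⟨g, hg⟩
      norm_num at this
    · exact not_twentysix hF g hg
    · rcases (CfsgLib.SpecSpEight.psp_adjacent_iff (p := 3) (n := 3) hn5 hn7 (by norm_num) (by norm_num) (by norm_num)
        (by norm_num) (by norm_num) (orderOf_prime_dvd hn7 g hg (by norm_num)) (eta_five hF) (eta_seven hF).2
        (by norm_num)).1 ⟨g, hg⟩ with h' | ⟨t, ht, e⟩
      · norm_num at h'
      · rw [(eta_seven hF).1, orderOf_five hF] at e; omega
    · have := (CfsgLib.SpecSpEight.psp_adjacent_char_iff (p := 3) (n := 3) (by norm_num) hn13 (by norm_num)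
        (by norm_num) (eta_thirteen hF).2).1 ⟨g, hg⟩
      norm_num at this
    · rcases (CfsgLib.SpecSpEight.psp_adjacent_iff (p := 3) (n := 3) hn5 hn13 (by norm_num) (by norm_num) (by norm_num)
        (by norm_num) (by norm_num) h13B (eta_five hF) (eta_thirteen hF).2
        (by norm_num)).1 ⟨g, hg⟩ with h' | ⟨t, ht, e⟩
      · norm_num at h'
      · rw [(eta_thirteen hF).1, orderOf_five hF] at e; omega
    · rcases (CfsgLib.SpecSpEight.psp_adjacent_iff (p := 3) (n := 3) hn7 hn13 (by norm_num) (by norm_num) (by norm_num)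
        (by norm_num) (by norm_num) h13B (eta_seven hF).2 (eta_thirteen hF).2
        le_rfl).1 ⟨g, hg⟩ with h' | ⟨t, ht, e⟩
      · norm_num at h'
      · rw [(eta_thirteen hF).1, (eta_seven hF).1] at e; omega
  · rintro n hn ⟨g, hg⟩
    exact not_order_grp h hs hn hg

end CfsgLib.PrimeGraphSp
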