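import Cfsg.Agent.Suzuki.Automorphisms
import Cfsg.Agent.Suzuki.Fpf
import Cfsg.Agent.Suzuki.Sylow
import Mathlib

/-!
`Sz(8)` extended by its field automorphisms, acting on twisted tensor squares of the natural module.
-/

set_option autoImplicit false
set_option linter.style.haveILetI false

namespace CfsgLib.PrimeGraphSp

open Matrix CfsgLib.Suzuki

variable {F : Type} [Field F] (h : IsSzField F 1)

local notation "G" => SzG F 1

/-- The field automorphisms as automorphisms of the group. -/
noncomputable def fieldHom : RingAut F →* MulAut (SzG F 1) where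
  toFun θ := fieldAut h θ
  map_one' := MulEquiv.ext fun g => Subtype.ext (Subtype.ext (Matrix.ext fun _ _ => rfl))
  map_mul' _ _ := MulEquiv.ext fun g => Subtype.ext (Subtype.ext (Matrix.ext fun _ _ => rfl))

/-- `Sz(8)` extended by the field automorphisms. -/
abbrev Aut8 := SzG F 1 ⋊[fieldHom h] RingAut F

/-- The matrix of `g`, twisted by `i`. -/
def tw (i : RingAut F) (g : SzG F 1) : Matrix (Fin 4) (Fin 4) F := g.1.val.map i

theorem tw_mul (i : RingAut F) (g g' : G) : tw i (g * g') = tw i g * tw i g' :=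
  Matrix.map_mul (f := i.toRingHom)

theorem tw_one (i : RingAut F) : tw i (1 : G) = 1 := Matrix.map_one i (map_zero i) (map_one i)

theorem tw_field (i θ : RingAut F) (g : G) : tw i (fieldHom h θ g) = tw (i * θ) g :=
  Matrix.ext fun _ _ => rfl

/-- The module: one matrix for each field automorphism. -/
abbrev Mod (F : Type) [Field F] := RingAut F → Matrix (Fin 4) (Fin 4) F

/-- The action. -/
noncomputable def act (s : RingAut F) (a : Aut8 h) (M : Mod F) : Mod F :=
  fun i => tw i a.left * M (i * a.right) * (tw (s * i) a.left)ᵀ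

theorem act_one (s : RingAut F) (M : Mod F) : act h s 1 M = M := funext fun i => by
  simp [act, tw_one]

theorem act_mul (s : RingAut F) (a b : Aut8 h) (M : Mod F) : act h s (a * b) M = act h s a (act h s b M) :=
  funext fun i => by
    simp [act, tw_mul, tw_field, mul_assoc, Matrix.mul_assoc, Matrix.transpose_mul]

theorem act_add (s : RingAut F) (a : Aut8 h) (M N : Mod F) : act h s a (M + N) = act h s a M + act h s a N :=
  funext fun i => by simp [act, Matrix.mul_add, Matrix.add_mul]

/-- The action on `k` copies, written multiplicatively. -/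
noncomputable def rho (s : RingAut F) (k : ℕ) : Aut8 h →* MulAut (Multiplicative (Fin k → Mod F)) :=
  MonoidHom.mk' (fun a =>
    { toFun := fun v => Multiplicative.ofAdd fun j => act h s a (v.toAdd j)
      invFun := fun v => Multiplicative.ofAdd fun j => act h s a⁻¹ (v.toAdd j)
      left_inv := fun v => Multiplicative.toAdd.injective (funext fun j => by
        simp [← act_mul, act_one])
      right_inv := fun v => Multiplicative.toAdd.injective (funext fun j => by
        simp [← act_mul, act_one])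
      map_mul' := fun v w => Multiplicative.toAdd.injective (funext fun j => by simp [act_add]) })
    fun a b => MulEquiv.ext fun v => Multiplicative.toAdd.injective (funext fun j => act_mul h s a b _)

/-- The group `W^k : (Sz(8):3)`. -/
abbrev Grp (s : RingAut F) (k : ℕ) := Multiplicative (Fin k → Mod F) ⋊[rho h s k] Aut8 h

include h

theorem card_G : Nat.card G = 29120 := by
  rw [show Nat.card G = Nat.card (Cfsg.Sz F 1) from rfl, card_Sz h, h.card]; norm_num

theorem orders {g : G} (hg : g ≠ 1) :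
    (∃ j, orderOf g = 2 ^ j) ∨ orderOf g ∣ 7 ∨ orderOf g ∣ 13 ∨ orderOf g ∣ 5 := by
  have := finite_G h
  rcases trichotomy h g with ⟨c, hc⟩ | ⟨c, hc⟩ | hf
  · obtain ⟨j, hj⟩ := IsPGroup.iff_orderOf.1 (isPGroup_unip h) ⟨_, hc⟩
    refine Or.inl ⟨j, ?_⟩
    rwa [← Subgroup.orderOf_coe, orderOf_conj_eq] at hj
  · refine Or.inr (Or.inl ?_)
    have hd := Subgroup.orderOf_dvd_natCard (torus h) hc
    rw [card_torus, h.card, orderOf_conj_eq] at hd
    exact hd
  · rcases orderOf_dvd_pm h hf with e | e
    · exact Or.inr (Or.inr (Or.inl (by simpa using e)))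
    · exact Or.inr (Or.inr (Or.inr (by simpa using e)))

theorem isFpf_thirteen {g : G} (hg : orderOf g = 13) : IsFpf g := by
  have := finite_G h
  rcases trichotomy h g with ⟨c, hc⟩ | ⟨c, hc⟩ | hf
  · obtain ⟨j, hj⟩ := IsPGroup.iff_orderOf.1 (isPGroup_unip h) ⟨_, hc⟩
    rw [← Subgroup.orderOf_coe, orderOf_conj_eq, hg] at hj
    cases j with
    | zero => simp at hj
    | succ j => rw [pow_succ] at hj; omega
  · have hd := Subgroup.orderOf_dvd_natCard (torus h) hc
    rw [card_torus, h.card, orderOf_conj_eq, hg] at hd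
    norm_num at hd
  · exact hf

theorem isEig_field {g : G} {l : AlgebraicClosure F} (hl : IsEig g l) {s : RingAut F}
    (hs : ∀ x, s x = x ^ 2) : IsEig (fieldHom h s g) (l ^ 2) := by
  have := charP_K h
  rw [isEig_iff_det, det_eq h] at hl ⊢
  have htr : (fieldHom h s g).1.val.trace = g.1.val.trace ^ 2 := by
    rw [← hs, show (fieldHom h s g).1.val = g.1.val.map s from Matrix.ext fun _ _ => rfl]
    simp [Matrix.trace, map_sum]
  rw [htr, map_pow]
  generalize algebraMap F (AlgebraicClosure F) g.1.val.trace = T at hl ⊢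
  have := congrArg (fun x : AlgebraicClosure F => x ^ 2) hl
  simp only [CharTwo.add_sq, mul_pow, one_pow, ← pow_mul, zero_pow two_ne_zero] at this
  convert this using 3
  all_goals ring

theorem pow_orbit {l : AlgebraicClosure F} (h13 : orderOf l = 13) (i j : Fin 4)
    (e : (l ^ 2) ^ (Nat.card F ^ (i : ℕ)) = l ^ (Nat.card F ^ (j : ℕ))) : False := by
  rw [← pow_mul, (isOfFinOrder_iff_pow_eq_one.2 ⟨13, by norm_num, by rw [← h13, pow_orderOf_eq_one]⟩).pow_eq_pow_iff_modEq, h13, h.card] at e
  revert e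
  unfold Nat.ModEq
  fin_cases i <;> fin_cases j <;> norm_num

/-- An element of order 13 fixes no matrix. -/
theorem fixed_thirteen {s : RingAut F} (hs : ∀ x, s x = x ^ 2) {g : G} (hg : orderOf g = 13)
    {M : Matrix (Fin 4) (Fin 4) F} (hM : g.1.val * M * (fieldHom h s g).1.valᵀ = M) : M = 0 := by
  classical
  set φ := algebraMap F (AlgebraicClosure F)
  set g' := fieldHom h s g with hg'
  have hf := isFpf_thirteen h hg
  have hg'13 : orderOf g' = 13 := (MulEquiv.orderOf_eq (fieldHom h s) g).trans hg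
  obtain ⟨l, hl⟩ := exists_isEig h g
  have hlo : orderOf l = 13 := (hl.orderOf_eq h hf).trans hg
  obtain ⟨v, hv, hev⟩ := exists_eigenbasis h (isEig_field h hl hs) (isFpf_thirteen h hg'13)
  set J : Matrix (Fin 4) (Fin 4) (AlgebraicClosure F) := CfsgLib.SzFix.J4
  have hJ : (matK g')ᵀ * J * matK g' = J := by
    have h1 := congrArg (fun N => φ.mapMatrix N)
      (CfsgLib.SzFix.transpose_form (lieCond_of_mem h (toGL_mem_lie h g'.2)).1)
    simp only [map_mul] at h1
    rw [show φ.mapMatrix CfsgLib.SzFix.J4 = J by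
      ext i j; fin_cases i <;> fin_cases j <;> simp [J, CfsgLib.SzFix.J4]] at h1
    exact h1
  have hMK : matK g * φ.mapMatrix M * (matK g')ᵀ = φ.mapMatrix M := by
    conv_rhs => rw [← hM, map_mul, map_mul]
    rfl
  have hzero : ∀ k, (φ.mapMatrix M * J) *ᵥ v k = 0 := by
    intro k
    set μ := (l ^ 2) ^ (Nat.card F ^ (k : ℕ)) with hμ
    by_contra hne
    have hμ0 : μ ≠ 0 := pow_ne_zero _ (pow_ne_zero _ (hl.ne_zero h))
    have h1 : (matK g')ᵀ *ᵥ (J *ᵥ v k) = μ⁻¹ • (J *ᵥ v k) := by
      have e : J *ᵥ v k = μ • ((matK g')ᵀ *ᵥ (J *ᵥ v k)) := by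
        conv_lhs => rw [← hJ]
        rw [← mulVec_mulVec, ← mulVec_mulVec, hev, mulVec_smul, mulVec_smul]
      rw [eq_inv_smul_iff₀ hμ0]
      exact e.symm
    have h2 : matK g *ᵥ ((φ.mapMatrix M * J) *ᵥ v k) = μ • ((φ.mapMatrix M * J) *ᵥ v k) := by
      have e : (φ.mapMatrix M * J) *ᵥ v k =
          μ⁻¹ • (matK g *ᵥ ((φ.mapMatrix M * J) *ᵥ v k)) := by
        rw [← mulVec_mulVec]
        conv_lhs => rw [← hMK]
        rw [← mulVec_mulVec, h1, mulVec_smul, ← mulVec_mulVec]
      conv_rhs => rw [e, smul_smul, mul_inv_cancel₀ hμ0, one_smul]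
    obtain ⟨j, hj⟩ := hl.mem_orbit h hf ⟨_, hne, h2⟩
    exact pow_orbit h hlo k j hj
  have hMJ : φ.mapMatrix M * J = 0 := by
    let b := basisOfLinearIndependentOfCardEqFinrank hv (by simp)
    apply Matrix.toLin'.injective
    refine b.ext fun k => ?_
    simpa [b, Matrix.toLin'_apply] using hzero k
  have hM0 : φ.mapMatrix M = 0 := by
    have := congrArg (· * J) hMJ
    simpa [Matrix.mul_assoc, J, CfsgLib.SzFix.J4_mul_J4] using this
  ext i j
  have := congrFun (congrFun hM0 i) j
  simpa [φ] using this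

/-- No element of order 7 or 13 is conjugate to its Frobenius image. -/
theorem not_conj_field {s : RingAut F} (hs : ∀ x, s x = x ^ 2) {y c : G}
    (hy : orderOf y = 7 ∨ orderOf y = 13) (e : c * fieldHom h s y * c⁻¹ = y) : False := by
  have := finite_G h
  rcases hy with hy | hy
  · obtain ⟨d, hd⟩ : ∃ d : G, d * y * d⁻¹ ∈ torus h := by
      rcases trichotomy h y with ⟨d, hd⟩ | hd | hf
      · obtain ⟨j, hj⟩ := IsPGroup.iff_orderOf.1 (isPGroup_unip h) ⟨_, hd⟩
        rw [← Subgroup.orderOf_coe, orderOf_conj_eq, hy] at hj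
        cases j with
        | zero => simp at hj
        | succ j => rw [pow_succ] at hj; omega
      · exact hd
      · rcases orderOf_dvd_pm h hf with e' | e' <;> rw [hy] at e' <;> norm_num at e'
    obtain ⟨t, ht⟩ := hd
    have hto : orderOf (t : F) = 7 := by
      rw [orderOf_units, ← orderOf_injective (dE h) (dE_injective h), ht, orderOf_conj_eq, hy]
    set φ := algebraMap F (AlgebraicClosure F) with hφ
    have hdiag : ∀ x, IsEig (dE h t) x ↔ x = φ t ^ 5 ∨ x = φ t ∨ x = φ t ^ 6 ∨ x = φ t ^ 2 := by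
      intro x
      have t7 : (t : F) ^ 7 = 1 := by rw [← hto, pow_orderOf_eq_one]
      have ht0 : (t : F) ≠ 0 := t.ne_zero
      have e6 : (t : F)⁻¹ = (t : F) ^ 6 := inv_eq_of_mul_eq_one_right (by rw [← pow_succ', t7])
      have e2 : (sg 1 (t : F) * t)⁻¹ = (t : F) ^ 2 :=
        inv_eq_of_mul_eq_one_right (by rw [sg_def]; linear_combination t7)
      have hm : x • (1 : Matrix (Fin 4) (Fin 4) (AlgebraicClosure F)) - matK (dE h t) =
          Matrix.diagonal ![x - φ t ^ 5, x - φ t, x - φ t ^ 6, x - φ t ^ 2] := by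
        have hv : matK (dE h t) = φ.mapMatrix (Dmat 1 (t : F)) := rfl
        rw [hv]
        ext i j
        fin_cases i <;> fin_cases j <;> simp [Dmat, e2] <;> (try simp [sg_def, e6, map_pow]) <;> (try ring_nf) <;> (try rw [← map_inv₀, e6, map_pow])
      rw [isEig_iff_det, hm, Matrix.det_diagonal, Fin.prod_univ_four]
      simp [sub_eq_zero, or_assoc]
    have hl : IsEig (dE h t) (φ t ^ 5) := (hdiag _).2 (Or.inl rfl)
    have hy5 : IsEig y (φ t ^ 5) := by
      have := hl.conj d⁻¹
      rwa [ht, inv_inv, show d⁻¹ * (d * y * d⁻¹) * d = y by group] at this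
    have h2 : IsEig y ((φ t ^ 5) ^ 2) := by
      have := (isEig_field h hy5 hs).conj c
      rwa [e] at this
    have h3 : IsEig (dE h t) ((φ t ^ 5) ^ 2) := ht ▸ h2.conj d
    rw [hdiag, ← pow_mul, ← map_pow, ← map_pow, ← map_pow, ← map_pow] at h3
    simp only [φ.injective.eq_iff] at h3
    have hfin : IsOfFinOrder (t : F) := orderOf_pos_iff.1 (by rw [hto]; norm_num)
    rcases h3 with h3 | h3 | h3 | h3
    all_goals first
      | (rw [hfin.pow_eq_pow_iff_modEq, hto] at h3; exact absurd h3 (by decide))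
      | (nth_rw 2 [← pow_one (t : F)] at h3; rw [hfin.pow_eq_pow_iff_modEq, hto] at h3
         exact absurd h3 (by decide))
  · obtain ⟨l, hl⟩ := exists_isEig h y
    have hf := isFpf_thirteen h hy
    have := (isEig_field h hl hs).conj c
    rw [e] at this
    obtain ⟨j, hj⟩ := hl.mem_orbit h hf this
    exact pow_orbit h ((hl.orderOf_eq h hf).trans hy) 0 j (by simpa using hj)

end CfsgLib.PrimeGraphSp
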