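import Cfsg.Agent.PrimeGraphSp.SzAction

/-!
Prime graph of `W^k : (Sz(8):3)`: edges 2-3, 2-5, 2-7, 3-5; 13 is isolated.
-/

set_option autoImplicit false
set_option linter.style.haveILetI false

namespace CfsgLib.PrimeGraphSp

open Matrix CfsgLib.Suzuki SemidirectProduct

variable {F : Type} [Field F] (h : IsSzField F 1) {s : RingAut F}

local notation "G" => SzG F 1

include h

theorem card_aut : Nat.card (RingAut F) = 3 := card_ringAut h

theorem finite_aut : Finite (RingAut F) := Nat.finite_of_card_ne_zero (by rw [card_aut h]; norm_num)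

theorem orderOf_frob (hs : ∀ x, s x = x ^ 2) : orderOf s = 3 := by
  have := finite_aut h
  have hne : s ≠ 1 := fun e => by
    obtain ⟨t, ht⟩ := exists_unit_ne_one h
    have h1 := hs t
    rw [e] at h1
    change (t : F) = (t : F) ^ 2 at h1
    refine ht (Units.ext ?_)
    have h2 : (t : F) * ((t : F) - 1) = 0 := by linear_combination (-1 : F) * h1
    exact sub_eq_zero.1 ((mul_eq_zero.1 h2).resolve_left t.ne_zero)
  have h3 : s ^ 3 = 1 := by rw [← card_aut h]; exact pow_card_eq_one'
  exact orderOf_eq_prime h3 hne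

theorem finite_grp (k : ℕ) : Finite (Grp h s k) := by
  have := h.finite
  have := finite_G h
  have := finite_aut h
  have : Finite (Aut8 h) := Finite.of_equiv _ SemidirectProduct.equivProd.symm
  exact Finite.of_equiv _ SemidirectProduct.equivProd.symm

theorem card_grp (k : ℕ) : Nat.card (Grp h s k) = 8 ^ (48 * k) * 87360 := by
  have := h.finite
  have := finite_aut h
  rw [SemidirectProduct.card, SemidirectProduct.card, card_aut h, card_G h,
    Nat.card_congr Multiplicative.toAdd, Nat.card_fun, Nat.card_fun, card_aut h, Nat.card_fin,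
    show Nat.card (Matrix (Fin 4) (Fin 4) F) = Nat.card (Fin 4 → Fin 4 → F) from rfl,
    Nat.card_fun, Nat.card_fun, Nat.card_fin, h.card, ← pow_mul, ← pow_mul, ← pow_mul]
  norm_num [← pow_mul, mul_comm, mul_assoc, mul_left_comm]

theorem exp_two (k : ℕ) (v : Multiplicative (Fin k → Mod F)) : v ^ 2 = 1 := by
  refine Multiplicative.toAdd.injective ?_
  rw [toAdd_pow, toAdd_one, two_nsmul]
  funext j i a b
  have := h.charP
  exact CharTwo.add_self_eq_zero _

/-- An element of order `p` of the quotient fixing a non-zero vector gives order `2p`. -/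
theorem exists_two_mul {p k : ℕ} (hp : Odd p) {a : Aut8 h} (ha : orderOf a = p) {M : Mod F} (hM : M ≠ 0)
    (hfix : act h s a M = M) : ∃ x : Grp h s (k + 1), orderOf x = 2 * p := by
  let v : Multiplicative (Fin (k + 1) → Mod F) := Multiplicative.ofAdd fun _ => M
  have hv : orderOf (inl v : Grp h s (k + 1)) = 2 := by
    rw [orderOf_injective _ inl_injective]
    exact orderOf_eq_prime (exp_two h _ v) fun e => hM (congrFun (congrArg Multiplicative.toAdd e) 0)
  have hr : orderOf (inr a : Grp h s (k + 1)) = p := by rw [orderOf_injective _ inr_injective, ha]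
  have hc : Commute (inl v : Grp h s (k + 1)) (inr a) := by
    have e := inl_aut (φ := rho h s (k + 1)) a v
    have hva : rho h s (k + 1) a v = v := Multiplicative.toAdd.injective (funext fun _ => hfix)
    rw [hva, map_inv, eq_mul_inv_iff_mul_eq] at e
    exact e
  exact ⟨_, by rw [hc.orderOf_mul_eq_mul_orderOf_of_coprime (by
    rw [hv, hr]; exact Nat.coprime_two_left.2 hp), hv, hr]⟩

theorem exists_five : ∃ g : G, orderOf g = 5 ∧ (∀ i : RingAut F, tw i g = g.1.val) ∧
    g.1.val * CfsgLib.SzFix.J4 * g.1.valᵀ = CfsgLib.SzFix.J4 := by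
  have := finite_G h
  have := h.charP
  let f : ZMod 2 →+* F := ZMod.castHom dvd_rfl F
  let B : Matrix (Fin 4) (Fin 4) (ZMod 2) := !![0,0,0,1;0,0,1,0;0,1,0,1;1,0,1,1]
  let g : G := wE h * uE h 0 1
  have hg : g.1.val = f.mapMatrix B := by
    show Wmat F * Umat 1 (0 : F) 1 = _
    ext i j
    fin_cases i <;> fin_cases j <;>
      simp [Wmat, Umat, B, f, zf, sg_def, Matrix.mul_apply, Fin.sum_univ_four]
  refine ⟨g, ?_, fun i => ?_, ?_⟩
  · haveI : Fact (Nat.Prime 5) := ⟨by norm_num⟩
    refine orderOf_eq_prime (Subtype.ext (Subtype.ext ?_)) fun e => ?_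
    · rw [SubmonoidClass.coe_pow, Matrix.SpecialLinearGroup.coe_pow, hg, ← map_pow,
        show B ^ 5 = 1 by decide, map_one]
      rfl
    · have := congrArg (fun M : Matrix (Fin 4) (Fin 4) F => M 0 0) (hg.symm.trans (by rw [e]; rfl :
        g.1.val = 1))
      simp [B, f] at this
  · ext a b
    show i (g.1.val a b) = _
    rw [hg]
    simp only [RingHom.mapMatrix_apply, Matrix.map_apply]
    exact RingHom.congr_fun (Subsingleton.elim (i.toRingHom.comp f) f) _
  · rw [hg, show CfsgLib.SzFix.J4 = f.mapMatrix (CfsgLib.SzFix.J4 : Matrix (Fin 4) (Fin 4) (ZMod 2)) by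
      ext i j; fin_cases i <;> fin_cases j <;> simp [CfsgLib.SzFix.J4]]
    rw [show (f.mapMatrix B)ᵀ = f.mapMatrix Bᵀ from Matrix.transpose_map, ← map_mul, ← map_mul]
    congr 1
    unfold CfsgLib.SzFix.J4
    decide

theorem exists_six (hs : ∀ x, s x = x ^ 2) (k : ℕ) : ∃ x : Grp h s (k + 1), orderOf x = 6 := by
  refine exists_two_mul h (by decide : Odd 3) (a := inr s) ?_ (M := fun _ => CfsgLib.SzFix.J4) ?_ ?_
  · rw [orderOf_injective _ inr_injective, orderOf_frob h hs]
  · intro e
    have := congrFun (congrFun (congrFun e 1) 0) 3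
    simp [CfsgLib.SzFix.J4] at this
  · funext i
    simp [act, tw_one]

theorem exists_ten (k : ℕ) : ∃ x : Grp h s (k + 1), orderOf x = 10 := by
  obtain ⟨g, hg, hfix, hJ⟩ := exists_five h
  refine exists_two_mul h (by decide : Odd 5) (a := inl g) ?_ (M := fun _ => CfsgLib.SzFix.J4) ?_ ?_
  · rw [orderOf_injective _ inl_injective, hg]
  · intro e
    have := congrFun (congrFun (congrFun e 1) 0) 3
    simp [CfsgLib.SzFix.J4] at this
  · funext i
    simp [act, hfix, hJ]

theorem exists_fourteen (hs : ∀ x, s x = x ^ 2) (k : ℕ) : ∃ x : Grp h s (k + 1), orderOf x = 14 := by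
  have := h.finite
  have := finite_G h
  haveI : Fact (Nat.Prime 7) := ⟨by norm_num⟩
  obtain ⟨t, ht⟩ := exists_prime_orderOf_dvd_card' 7 (show 7 ∣ Nat.card Fˣ by rw [Nat.card_units, h.card]; norm_num)
  refine exists_two_mul h (by decide : Odd 7) (a := inl (dE h t)) ?_
    (M := fun _ => Matrix.single 0 1 1) ?_ ?_
  · rw [orderOf_injective _ inl_injective, orderOf_injective _ (dE_injective h), ht]
  · intro e
    have := congrFun (congrFun (congrFun e 1) 0) 1
    simp at this
  · funext i
    have t7 : (t : F) ^ 7 = 1 := by rw [← Units.val_pow_eq_pow_val, ← ht, pow_orderOf_eq_one, Units.val_one]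
    have hd : ∀ j : RingAut F, tw j (dE h t) = Matrix.diagonal ![j (t : F) ^ 5, j (t : F), (j (t : F))⁻¹, (j (t : F) ^ 5)⁻¹] := by
      intro j
      show (Dmat 1 (t : F)).map j = _
      ext a b
      fin_cases a <;> fin_cases b <;> simp [Dmat, sg_def, map_inv₀] <;> ring
    show tw i (inl (dE h t) : Aut8 h).left * Matrix.single 0 1 1 * (tw (s * i) (inl (dE h t) : Aut8 h).left)ᵀ = _
    rw [left_inl, hd, hd, Matrix.diagonal_transpose]
    ext a b
    rw [Matrix.mul_diagonal, Matrix.diagonal_mul, show (s * i : RingAut F) (t : F) = i (t : F) ^ 2 from hs _]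
    fin_cases a <;> fin_cases b <;> simp [Matrix.single]
    rw [← pow_add, ← map_pow, t7, map_one]

theorem exists_fifteen (hs : ∀ x, s x = x ^ 2) (k : ℕ) : ∃ x : Grp h s k, orderOf x = 15 := by
  obtain ⟨g, hg, hfix, -⟩ := exists_five h
  have hc : Commute (inl g : Aut8 h) (inr s) := by
    have e := inl_aut (φ := fieldHom h) s g
    have hsg : fieldHom h s g = g := Subtype.ext (Subtype.ext (hfix s))
    rw [hsg, map_inv, eq_mul_inv_iff_mul_eq] at e
    exact e
  refine ⟨inr ((inl g : Aut8 h) * inr s), ?_⟩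
  rw [orderOf_injective _ inr_injective, hc.orderOf_mul_eq_mul_orderOf_of_coprime] <;>
    rw [orderOf_injective _ inl_injective, orderOf_injective _ inr_injective, hg, orderOf_frob h hs]
  norm_num

theorem exists_left_of_pow {a : Aut8 h} {n : ℕ} (hn : a ^ n = 1) (h3 : ¬ 3 ∣ n) :
    ∃ g : G, (inl g : Aut8 h) = a := by
  have hr : a.right = 1 := by
    have e1 : a.right ^ n = 1 := by
      rw [← rightHom_eq_right, ← map_pow, hn, map_one]
    have e3 : a.right ^ 3 = 1 := by rw [← card_aut h]; exact pow_card_eq_one'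
    have := pow_gcd_eq_one.2 ⟨e1, e3⟩
    rwa [Nat.coprime_iff_gcd_eq_one.1 (((Nat.prime_three).coprime_iff_not_dvd.2 h3).symm), pow_one] at this
  exact ⟨a.left, SemidirectProduct.ext (left_inl _) (by rw [right_inl, hr])⟩

theorem not_order (hs : ∀ x, s x = x ^ 2) {a : Aut8 h} {n : ℕ} (hn : n ∈ [21, 26, 35, 39, 65, 91])
    (ha : orderOf a = n) : False := by
  have := finite_G h
  by_cases h3 : 3 ∣ n
  · obtain ⟨r, hr, rfl⟩ : ∃ r, (r = 7 ∨ r = 13) ∧ n = 3 * r := by
      simp only [List.mem_cons, List.not_mem_nil, or_false] at hn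
      rcases hn with rfl | rfl | rfl | rfl | rfl | rfl
      · exact ⟨7, Or.inl rfl, rfl⟩
      · norm_num at h3
      · norm_num at h3
      · exact ⟨13, Or.inr rfl, rfl⟩
      · norm_num at h3
      · norm_num at h3
    have hr0 : r ≠ 0 := by omega
    have hy0 : orderOf (a ^ 3) = r := by
      rw [orderOf_pow_of_dvd (by norm_num) (ha ▸ dvd_mul_right 3 r), ha, Nat.mul_div_cancel_left _ (by norm_num)]
    obtain ⟨y, hy⟩ := exists_left_of_pow h (hy0 ▸ pow_orderOf_eq_one (a ^ 3)) (by omega)
    rw [← hy, orderOf_injective _ inl_injective] at hy0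
    have hne : a.right ≠ 1 := by
      intro e
      obtain ⟨g, hg⟩ : ∃ g : G, (inl g : Aut8 h) = a :=
        ⟨a.left, SemidirectProduct.ext (left_inl _) (by rw [right_inl, e])⟩
      rw [← hg, orderOf_injective _ inl_injective] at ha
      have := orderOf_dvd_natCard g
      rw [ha, card_G h] at this
      have := (dvd_mul_right 3 r).trans this
      norm_num at this
    have h3s : orderOf a.right = 3 := orderOf_eq_prime (by rw [← card_aut h]; exact pow_card_eq_one') hne
    obtain ⟨j, hj⟩ : ∃ j : ℕ, a.right ^ j = s := by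
      have := finite_aut h
      have : Subgroup.zpowers a.right = ⊤ :=
        Subgroup.eq_top_of_card_eq _ (by rw [Nat.card_zpowers, h3s, card_aut h])
      exact mem_powers_iff_mem_zpowers.2 (this ▸ Subgroup.mem_top s)
    have hc : a ^ j * inl y = inl y * a ^ j := by rw [hy, ← pow_add, ← pow_add, add_comm]
    have hl := congrArg SemidirectProduct.left hc
    have hright : (a ^ j).right = s := by rw [← rightHom_eq_right, map_pow]; exact hj
    simp only [mul_left, left_inl, right_inl, map_one, MulAut.one_apply, hright] at hl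
    exact not_conj_field h hs (y := y) (c := (a ^ j).left) (hy0 ▸ hr) (by rw [hl, mul_inv_cancel_right])
  · obtain ⟨g, rfl⟩ := exists_left_of_pow h (ha ▸ pow_orderOf_eq_one a) h3
    rw [orderOf_injective _ inl_injective] at ha
    have hg1 : g ≠ 1 := fun e => by simp [e] at ha; subst ha; simp at hn
    simp only [List.mem_cons, List.not_mem_nil, or_false] at hn
    rcases orders h hg1 with ⟨j, hj⟩ | hd | hd | hd
    · obtain ⟨q, hq, hq2, hqd⟩ : ∃ q, q.Prime ∧ q ≠ 2 ∧ q ∣ n := by
        rcases hn with rfl | rfl | rfl | rfl | rfl | rfl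
        · exact ⟨7, by norm_num, by norm_num, by norm_num⟩
        · exact ⟨13, by norm_num, by norm_num, by norm_num⟩
        · exact ⟨5, by norm_num, by norm_num, by norm_num⟩
        · exact ⟨13, by norm_num, by norm_num, by norm_num⟩
        · exact ⟨13, by norm_num, by norm_num, by norm_num⟩
        · exact ⟨13, by norm_num, by norm_num, by norm_num⟩
      rw [← ha, hj] at hqd
      exact hq2 ((Nat.prime_dvd_prime_iff_eq hq Nat.prime_two).1 (hq.dvd_of_dvd_pow hqd))
    all_goals rw [ha] at hd; rcases hn with rfl | rfl | rfl | rfl | rfl | rfl <;> norm_num at hd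

/-- The non-edges. -/
theorem not_order_grp (hs : ∀ x, s x = x ^ 2) {k : ℕ} {x : Grp h s k} {n : ℕ}
    (hn : n ∈ [21, 26, 35, 39, 65, 91]) (hx : orderOf x = n) : False := by
  have hd : orderOf x.right ∣ n := hx ▸ orderOf_map_dvd rightHom x
  set d := orderOf x.right with hdd
  have hker : (x ^ d) ^ 2 = 1 := by
    have hr : (x ^ d).right = 1 := by rw [← rightHom_eq_right, map_pow]; exact pow_orderOf_eq_one _
    have : (inl (x ^ d).left : Grp h s k) = x ^ d :=
      SemidirectProduct.ext (left_inl _) (by rw [right_inl, hr])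
    rw [← this, ← map_pow, exp_two h, map_one]
  have hn2 : n ∣ d * 2 := hx ▸ orderOf_dvd_of_pow_eq_one (by rw [pow_mul]; exact hker)
  by_cases hdn : d = n
  · exact not_order h hs hn hdn
  simp only [List.mem_cons, List.not_mem_nil, or_false] at hn
  have hn26 : n = 26 ∧ d = 13 := by
    obtain ⟨e, he⟩ := hn2
    obtain ⟨c, hc⟩ := hd
    have hec : e * c = 2 := Nat.eq_of_mul_eq_mul_left (show 0 < d by rcases hn with h | h | h | h | h | h <;> (rw [h] at hc; rcases Nat.eq_zero_or_pos d with z | z <;> [simp [z] at hc; exact z]))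
      (by rw [hc] at he; linear_combination -he)
    have hc2 : c = 1 ∨ c = 2 := (Nat.dvd_prime Nat.prime_two).1 ⟨e, by rw [← hec, mul_comm]⟩
    rcases hc2 with rfl | rfl <;> rcases hn with rfl | rfl | rfl | rfl | rfl | rfl <;> omega
  obtain ⟨rfl, hd13⟩ := hn26
  obtain ⟨g, hg⟩ := exists_left_of_pow h (n := 13) (by rw [← hd13]; exact pow_orderOf_eq_one x.right) (by norm_num)
  have hg13 : orderOf g = 13 := by rw [← orderOf_injective (inl : SzG F 1 →* Aut8 h) inl_injective, hg]; exact hd13
  set v := (x ^ 13).left with hv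
  have hr13 : (x ^ 13).right = 1 := by
    rw [← rightHom_eq_right, map_pow, ← hd13]; exact pow_orderOf_eq_one _
  have hx13 : (inl v : Grp h s k) = x ^ 13 := SemidirectProduct.ext (left_inl _) (by rw [right_inl, hr13])
  have hne : v ≠ 1 := fun e => by
    rw [e, map_one] at hx13
    exact pow_ne_one_of_lt_orderOf (n := 13) (by norm_num) (by rw [hx]; norm_num) hx13.symm
  have hc : x * inl v = inl v * x := by rw [hx13, ← pow_succ, ← pow_succ']
  have hl := congrArg SemidirectProduct.left hc
  simp only [mul_left, left_inl, right_inl, map_one, MulAut.one_apply] at hl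
  rw [mul_comm v, mul_left_cancel_iff, ← hg] at hl
  refine hne (Multiplicative.toAdd.injective (funext fun j => funext fun i => ?_))
  have hfix := congrFun (congrFun (congrArg Multiplicative.toAdd hl) j) i
  change tw i (inl g : Aut8 h).left * v.toAdd j (i * (inl g : Aut8 h).right) *
    (tw (s * i) (inl g : Aut8 h).left)ᵀ = v.toAdd j i at hfix
  rw [left_inl, right_inl, mul_one] at hfix
  refine fixed_thirteen h hs (g := fieldHom h i g) ((MulEquiv.orderOf_eq (fieldHom h i) g).trans hg13) ?_
  have e : (fieldHom h s (fieldHom h i g)).1.val = tw (s * i) g := Matrix.ext fun _ _ => rfl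
  rw [e]
  exact hfix

end CfsgLib.PrimeGraphSp
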